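import Groth.Agent.S0034
import Groth.Agent.Fga.UnitRestrict
import Groth.Agent.Fga.EulerIso
import Groth.Agent.CurvesC.UnitCoh
import Mathlib.RingTheory.Flat.FaithfullyFlat.Descent
import Mathlib.RingTheory.Flat.FaithfullyFlat.Algebra
import Mathlib.AlgebraicGeometry.Morphisms.Flat

/-!
# Faithfully flat descent of vanishing of cohomology and of surjectivity on global sections

`A → B` faithfully flat, `X` qcqs over `Spec A`, `X' = X ×_A B`.
* `subsingleton_HH_iff`: `H^i(X', F') = 0 ↔ H^i(X, F) = 0` (`F` quasi-coherent), `subsingleton_HH_structure_iff`;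
* `surjective_appTop_of_baseChange`: for `f : X ⟶ Y` over `A`: `Γ(Y) → Γ(X)` is surjective if `Γ(Y') → Γ(X')` is; the same for
  bijective;
* the variants for a field extension.
-/

set_option autoImplicit false
universe u

open AlgebraicGeometry CategoryTheory CategoryTheory.Limits TensorProduct

namespace Groth.Agent.Ega4C.CohDescent

section HH

variable {A B : Type u} [CommRing A] [CommRing B] {X X' : Scheme.{u}}

/-- vanishing of cohomology descends and ascends along faithfully flat base change. -/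
theorem subsingleton_HH_iff (φ : A →+* B) (hφ : φ.FaithfullyFlat) {g' : X' ⟶ X}
    {q' : X' ⟶ Spec (CommRingCat.of B)} {q : X ⟶ Spec (CommRingCat.of A)} [CompactSpace X]
    [QuasiSeparatedSpace X] (h : IsPullback g' q' q (Spec.map (CommRingCat.ofHom φ)))
    (M : X.Modules) (hM : Coh.IsQCoh M) (i : ℕ) :
    Subsingleton (Coh.HH X' ((Scheme.Modules.pullback g').obj M) i) ↔ Subsingleton (Coh.HH X M i) := by
  algebraize [φ]
  let _ : X.Over (Spec (CommRingCat.of A)) := ⟨q⟩
  let _ : X'.Over (Spec (CommRingCat.of B)) := ⟨q'⟩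
  have hff : Module.FaithfullyFlat A B := hφ
  have : Module.Flat A B := inferInstance
  have hM' : Coh.IsQCoh M := hM
  obtain ⟨e⟩ := Groth.Agent.S0034.result A B X X' g' h M i
  rw [← e.toEquiv.subsingleton_congr]
  exact Module.FaithfullyFlat.subsingleton_tensorProduct_iff_right A B

theorem subsingleton_HH_congr {X : Scheme.{u}} {M N : X.Modules} (e : M ≅ N) (i : ℕ) :
    Subsingleton (Coh.HH X M i) ↔ Subsingleton (Coh.HH X N i) := by
  let _ : X.Over (Spec (CommRingCat.of (ULift.{u} ℤ))) := ⟨specULiftZIsTerminal.from X⟩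
  exact (Groth.Agent.Fga.EulerIso.HHequiv (ULift.{u} ℤ) e i).toEquiv.subsingleton_congr

/-- vanishing of the cohomology of the structure sheaf. -/
theorem subsingleton_HH_structure_iff (φ : A →+* B) (hφ : φ.FaithfullyFlat) {g' : X' ⟶ X}
    {q' : X' ⟶ Spec (CommRingCat.of B)} {q : X ⟶ Spec (CommRingCat.of A)} [CompactSpace X]
    [QuasiSeparatedSpace X] (h : IsPullback g' q' q (Spec.map (CommRingCat.ofHom φ))) (i : ℕ) :
    Subsingleton (Coh.HH X' (Coh.structureModule X') i) ↔ Subsingleton (Coh.HH X (Coh.structureModule X) i) := by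
  rw [← subsingleton_HH_iff φ hφ h (Coh.structureModule X) (CurvesC.UnitCoh.isQCoh_unit X) i]
  exact subsingleton_HH_congr (Fga.UnitRestrict.pullbackUnitIso g').symm i

/-- the case of a field extension. -/
theorem subsingleton_HH_structure_field_iff {k K : Type u} [Field k] [Field K] (φ : k →+* K) {g' : X' ⟶ X}
    {q' : X' ⟶ Spec (CommRingCat.of K)} {q : X ⟶ Spec (CommRingCat.of k)} [CompactSpace X]
    [QuasiSeparatedSpace X] (h : IsPullback g' q' q (Spec.map (CommRingCat.ofHom φ))) (i : ℕ) :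
    Subsingleton (Coh.HH X' (Coh.structureModule X') i) ↔ Subsingleton (Coh.HH X (Coh.structureModule X) i) := by
  refine subsingleton_HH_structure_iff φ ?_ h i
  algebraize [φ]
  change Module.FaithfullyFlat k K
  infer_instance

end HH

section Sections

theorem appLE_top_eq {X Y : Scheme.{u}} (f : X ⟶ Y) (h) : f.appLE ⊤ ⊤ h = f.appTop := by
  simp [Scheme.Hom.appLE, Scheme.Hom.appTop]

/-- flat base change of global sections (Mathlib), as a pushout. -/
theorem isPushout_appTop {X Y S T : Scheme.{u}} {f : T ⟶ S} {g : Y ⟶ X} {iX : X ⟶ S} {iY : Y ⟶ T}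
    (H : IsPullback g iY iX f) [Flat f] [IsAffine S] [IsAffine T] [CompactSpace X] [QuasiSeparatedSpace X] :
    IsPushout iX.appTop f.appTop g.appTop iY.appTop := by
  have h := isIso_pushoutSection_of_isQuasiSeparated_of_flat_right H (US := ⊤) (UT := ⊤) (UX := ⊤) (UY := ⊤)
    le_top le_top (by simp) (isAffineOpen_top _) (isAffineOpen_top _)
    (by simpa using isCompact_univ) (by simpa using isQuasiSeparated_univ)
  rw [isIso_pushoutSection_iff] at h
  simpa [appLE_top_eq] using h

/-- the square of global sections of `X' → X`, `Y' → Y` is a pushout, and `Γ(Y) → Γ(Y')` is faithfully flat. -/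
theorem isPushout_appTop_map {A B : CommRingCat.{u}} (φ : A ⟶ B) (hφ : φ.hom.FaithfullyFlat)
    {X Y X' Y' : Scheme.{u}} {f : X ⟶ Y} {f' : X' ⟶ Y'} {gX : X' ⟶ X} {gY : Y' ⟶ Y} {q : Y ⟶ Spec A} {q' : Y' ⟶ Spec B}
    (hX : IsPullback gX f' f gY) (hY : IsPullback gY q' q (Spec.map φ))
    [CompactSpace X] [QuasiSeparatedSpace X] [CompactSpace Y] [QuasiSeparatedSpace Y] :
    IsPushout f.appTop gY.appTop gX.appTop f'.appTop ∧ gY.appTop.hom.FaithfullyFlat := by
  have hfl : Flat (Spec.map φ) := by
    rw [Flat.SpecMap_iff]; exact hφ.flat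
  have h1 := isPushout_appTop hY
  have h2 := isPushout_appTop (hX.paste_vert hY)
  refine ⟨?_, ?_⟩
  · rw [Scheme.Hom.comp_appTop, Scheme.Hom.comp_appTop] at h2
    exact IsPushout.of_left h2 (by rw [← Scheme.Hom.comp_appTop, ← Scheme.Hom.comp_appTop, hX.w]) h1
  · have h3 : (Spec.map φ).appTop.hom.FaithfullyFlat := by
      rw [← Flat.flat_and_surjective_iff_faithfullyFlat_of_isAffine, flat_and_surjective_SpecMap_iff]
      exact hφ
    have hs : (RingHom.toMorphismProperty RingHom.FaithfullyFlat).IsStableUnderCobaseChange :=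
      RingHom.isStableUnderCobaseChange_toMorphismProperty_iff.2 RingHom.FaithfullyFlat.isStableUnderBaseChange
    exact hs.of_isPushout h1 h3

/-- descent along a pushout square of rings. -/
theorem of_isPushout_ring {P Q : ∀ {R S : Type u} [CommRing R] [CommRing S], (R →+* S) → Prop}
    (H : RingHom.CodescendsAlong P Q) {C D C' D' : CommRingCat.{u}} {a : C ⟶ D} {b : C ⟶ C'} {c : D ⟶ D'} {d : C' ⟶ D'}
    (h : IsPushout a b c d) (hb : Q b.hom) (hd : P d.hom) : P a.hom := by
  algebraize [a.hom, b.hom, c.hom, d.hom, c.hom.comp a.hom]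
  have : IsScalarTower C C' D' := .of_algebraMap_eq fun x ↦ congr($(h.1.1).hom x)
  have : Algebra.IsPushout C D C' D' := CommRingCat.isPushout_iff_isPushout.mp h
  exact H (R := C) (S := D) (R' := C') (S' := D') hb hd

/-- surjectivity on global sections descends. -/
theorem surjective_appTop_of_baseChange {A B : CommRingCat.{u}} (φ : A ⟶ B) (hφ : φ.hom.FaithfullyFlat)
    {X Y X' Y' : Scheme.{u}} {f : X ⟶ Y} {f' : X' ⟶ Y'} {gX : X' ⟶ X} {gY : Y' ⟶ Y} {q : Y ⟶ Spec A} {q' : Y' ⟶ Spec B}
    (hX : IsPullback gX f' f gY) (hY : IsPullback gY q' q (Spec.map φ))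
    [CompactSpace X] [QuasiSeparatedSpace X] [CompactSpace Y] [QuasiSeparatedSpace Y]
    (hs : Function.Surjective f'.appTop) : Function.Surjective f.appTop := by
  obtain ⟨h1, h2⟩ := isPushout_appTop_map φ hφ hX hY
  exact of_isPushout_ring RingHom.FaithfullyFlat.codescendsAlong_surjective h1 h2 hs

theorem injective_appTop_of_baseChange {A B : CommRingCat.{u}} (φ : A ⟶ B) (hφ : φ.hom.FaithfullyFlat)
    {X Y X' Y' : Scheme.{u}} {f : X ⟶ Y} {f' : X' ⟶ Y'} {gX : X' ⟶ X} {gY : Y' ⟶ Y} {q : Y ⟶ Spec A} {q' : Y' ⟶ Spec B}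
    (hX : IsPullback gX f' f gY) (hY : IsPullback gY q' q (Spec.map φ))
    [CompactSpace X] [QuasiSeparatedSpace X] [CompactSpace Y] [QuasiSeparatedSpace Y]
    (hs : Function.Injective f'.appTop) : Function.Injective f.appTop := by
  obtain ⟨h1, h2⟩ := isPushout_appTop_map φ hφ hX hY
  exact of_isPushout_ring RingHom.FaithfullyFlat.codescendsAlong_injective h1 h2 hs

end Sections

end Groth.Agent.Ega4C.CohDescent
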