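import Mathlib.RingTheory.Regular.RegularSequence
import Mathlib.RingTheory.Ideal.AssociatedPrime.Finiteness
import Mathlib.LinearAlgebra.Matrix.Adjugate
import Mathlib.RingTheory.LocalRing.Quotient
import Mathlib.RingTheory.Ideal.Quotient.Noetherian
import Mathlib.Tactic.LinearCombination

/-!
# The transition formula for regular sequences (linkage lemma)

Let `R` be a Noetherian local ring, `f h : Fin n → R` two regular sequences in the maximal ideal
with `f = M h` for a matrix `M`.  Then `(f) : (h) = (f) + (det M)`.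

The proof is elementary: no Koszul complexes and no `Ext`.

* `exists_add_notMem`: coset prime avoidance.
* `linkage`: `x * h i ∈ (f)` for all `i` implies `x ∈ (f) ⊔ (det M)`.
* `det_mul_mem`: conversely `det M * h i ∈ (f)` (Cramer, no hypothesis).
* `linkage_iff`.
-/

set_option autoImplicit false

namespace Groth.Agent.Ega4C.Linkage

open RingTheory.Sequence IsLocalRing

universe u

section Avoid

variable {R : Type*} [CommRing R]

/-- Coset prime avoidance, for a finite set of primes. -/
theorem exists_add_notMem (s : Finset (Ideal R)) (hs : ∀ P ∈ s, P.IsPrime) (a : R) (J : Ideal R)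
    (h : ∀ P ∈ s, ¬ (a ∈ P ∧ J ≤ P)) : ∃ b ∈ J, ∀ P ∈ s, a + b ∉ P := by
  classical
  induction s using Finset.strongInduction with
  | H s ih =>
  rcases s.eq_empty_or_nonempty with rfl | hne
  · exact ⟨0, zero_mem _, by simp⟩
  obtain ⟨P, hPs, hPmin⟩ := s.exists_minimal hne
  obtain ⟨b, hbJ, hb⟩ := ih (s.erase P) (Finset.erase_ssubset hPs)
    (fun Q hQ => hs Q (Finset.mem_of_mem_erase hQ)) (fun Q hQ => h Q (Finset.mem_of_mem_erase hQ))
  by_cases hab : a + b ∉ P
  · refine ⟨b, hbJ, fun Q hQ => ?_⟩
    by_cases hQP : Q = P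
    · subst hQP; exact hab
    · exact hb Q (Finset.mem_erase.mpr ⟨hQP, hQ⟩)
  rw [not_not] at hab
  have hPp : P.IsPrime := hs P hPs
  have hJP : ¬ J ≤ P := by
    intro hJP
    refine h P hPs ⟨?_, hJP⟩
    have := P.sub_mem hab (hJP hbJ)
    simpa using this
  have hinf : ¬ (J ⊓ (s.erase P).inf id ≤ P) := by
    intro hle
    rcases (hPp.inf_le).mp hle with h1 | h1
    · exact hJP h1
    · obtain ⟨Q, hQ, hQP⟩ := (Ideal.IsPrime.inf_le' hPp).mp h1
      have hQs := Finset.mem_of_mem_erase hQ
      have : P ≤ Q := hPmin hQs hQP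
      exact (Finset.ne_of_mem_erase hQ) (le_antisymm hQP this)
  obtain ⟨c, hc, hcP⟩ := Set.not_subset.mp hinf
  have hcJ : c ∈ J := hc.1
  have hcQ : ∀ Q ∈ s.erase P, c ∈ Q := fun Q hQ => (Finset.inf_le (f := id) hQ) hc.2
  refine ⟨b + c, J.add_mem hbJ hcJ, fun Q hQ => ?_⟩
  by_cases hQP : Q = P
  · subst hQP
    intro hmem
    apply hcP
    have := Q.sub_mem hmem hab
    have h2 : a + (b + c) - (a + b) = c := by ring
    rwa [h2] at this
  · have hQ' : Q ∈ s.erase P := Finset.mem_erase.mpr ⟨hQP, hQ⟩
    intro hmem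
    apply hb Q hQ'
    have := Q.sub_mem hmem (hcQ Q hQ')
    have h2 : a + (b + c) - c = a + b := by ring
    rwa [h2] at this

end Avoid

section Cramer

variable {R : Type*} [CommRing R] {n : ℕ}

/-- Cramer: `det M * h i ∈ (f)` whenever `f = M h`. -/
theorem det_mul_mem (f h : Fin n → R) (M : Matrix (Fin n) (Fin n) R)
    (hM : ∀ i, f i = ∑ j, M i j * h j) (i : Fin n) : M.det * h i ∈ Ideal.span (Set.range f) := by
  have hf : f = M.mulVec h := by
    funext i; rw [hM i]; rfl
  have h1 : (M.adjugate).mulVec f = M.det • h := by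
    rw [hf, Matrix.mulVec_mulVec, Matrix.adjugate_mul, Matrix.smul_mulVec, Matrix.one_mulVec]
  have h2 : M.det * h i = ∑ j, M.adjugate i j * f j := by
    have := congrFun h1 i
    rw [Pi.smul_apply, smul_eq_mul] at this
    rw [← this]; rfl
  rw [h2]
  exact Ideal.sum_mem _ fun j _ => Ideal.mul_mem_left _ _ (Ideal.subset_span ⟨j, rfl⟩)

/-- Cramer for the first coordinate, isolating the last function. -/
theorem det_mul_zero (f h : Fin (n + 1) → R) (M : Matrix (Fin (n + 1)) (Fin (n + 1)) R)
    (hM : ∀ i, f i = ∑ j, M i j * h j) :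
    M.det * h 0 - (-1) ^ n * (M.submatrix Fin.castSucc Fin.succ).det * f (Fin.last n) ∈
      Ideal.span (Set.range fun i : Fin n => f i.castSucc) := by
  have hf : f = M.mulVec h := by
    funext i; rw [hM i]; rfl
  have h1 : (M.adjugate).mulVec f = M.det • h := by
    rw [hf, Matrix.mulVec_mulVec, Matrix.adjugate_mul, Matrix.smul_mulVec, Matrix.one_mulVec]
  have h2 : M.det * h 0 = ∑ j, M.adjugate 0 j * f j := by
    have := congrFun h1 0
    rw [Pi.smul_apply, smul_eq_mul] at this
    rw [← this]; rfl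
  have h3 : M.adjugate 0 (Fin.last n) = (-1) ^ n * (M.submatrix Fin.castSucc Fin.succ).det := by
    rw [Matrix.adjugate_fin_succ_eq_det_submatrix, Fin.val_last, Fin.val_zero, add_zero,
      Fin.succAbove_last, Fin.succAbove_zero]
  rw [h2, Fin.sum_univ_castSucc, h3, add_sub_cancel_right]
  exact Ideal.sum_mem _ fun j _ => Ideal.mul_mem_left _ _ (Ideal.subset_span ⟨j, rfl⟩)

end Cramer

section WR

variable {R : Type u} [CommRing R] {n : ℕ}

theorem ofList_ofFn (f : Fin n → R) : Ideal.ofList (List.ofFn f) = Ideal.span (Set.range f) := by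
  unfold Ideal.ofList
  congr 1
  ext x
  simp [List.mem_ofFn]

/-- `r` is regular on `R/I` in elementary terms. -/
theorem isSMulRegular_quot_iff (I : Ideal R) (r : R) :
    IsSMulRegular (R ⧸ (I • ⊤ : Submodule R R)) r ↔ ∀ x, r * x ∈ I → x ∈ I := by
  have hI : (I • ⊤ : Submodule R R) = I := by
    rw [smul_eq_mul, Ideal.mul_top]
  rw [hI]
  constructor
  · intro h x hx
    have h0 : r • (Ideal.Quotient.mk I x) = 0 := by
      have : r • (Ideal.Quotient.mk I x) = Ideal.Quotient.mk I (r * x) := by
        rw [Algebra.smul_def, map_mul]; rfl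
      rw [this]; exact Ideal.Quotient.eq_zero_iff_mem.mpr hx
    exact Ideal.Quotient.eq_zero_iff_mem.mp (h.right_eq_zero_of_smul h0)
  · intro h
    refine (isSMulRegular_iff_right_eq_zero_of_smul).mpr fun x hx => ?_
    obtain ⟨x, rfl⟩ := Ideal.Quotient.mk_surjective x
    have : r • (Ideal.Quotient.mk I x) = Ideal.Quotient.mk I (r * x) := by
      rw [Algebra.smul_def, map_mul]; rfl
    rw [this] at hx
    exact Ideal.Quotient.eq_zero_iff_mem.mpr (h x (Ideal.Quotient.eq_zero_iff_mem.mp hx))

theorem wr_snoc_iff (l : List R) (r : R) :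
    IsWeaklyRegular R (l ++ [r]) ↔ IsWeaklyRegular R l ∧ ∀ x, r * x ∈ Ideal.ofList l → x ∈ Ideal.ofList l := by
  rw [isWeaklyRegular_append_iff, isWeaklyRegular_singleton_iff, isSMulRegular_quot_iff]

theorem wr_ofFn_succ_iff (f : Fin (n + 1) → R) :
    IsWeaklyRegular R (List.ofFn f) ↔ IsWeaklyRegular R (List.ofFn fun i : Fin n => f i.castSucc) ∧
      ∀ x, f (Fin.last n) * x ∈ Ideal.span (Set.range fun i : Fin n => f i.castSucc) →
        x ∈ Ideal.span (Set.range fun i : Fin n => f i.castSucc) := by
  rw [List.ofFn_succ', List.concat_eq_append, wr_snoc_iff, ofList_ofFn]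

theorem wr_cons_iff (g : R) (l : List R) :
    IsWeaklyRegular R (g :: l) ↔ IsSMulRegular R g ∧
      IsWeaklyRegular (R ⧸ Ideal.span {g}) (l.map (Ideal.Quotient.mk (Ideal.span {g}))) := by
  rw [isWeaklyRegular_cons_iff]
  refine and_congr_right fun _ => ?_
  have e : QuotSMulTop g R ≃ₗ[R] (R ⧸ Ideal.span {g}) :=
    Submodule.quotEquivOfEq _ _ (by
      rw [← Submodule.ideal_span_singleton_smul, smul_eq_mul, Ideal.mul_top])
  rw [e.isWeaklyRegular_congr]
  exact (isWeaklyRegular_map_algebraMap_iff (R ⧸ Ideal.span {g}) (R ⧸ Ideal.span {g}) l).symm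

end WR

section Main

/-- **Linkage lemma** (transition formula).  `R` Noetherian local, `f h : Fin n → R` weakly regular
sequences in the maximal ideal, `f = M h`.  If `x (h) ⊆ (f)` then `x ∈ (f) + (det M)`. -/
theorem linkage (n : ℕ) : ∀ {R : Type u} [CommRing R] [IsLocalRing R] [IsNoetherianRing R]
    (f h : Fin n → R) (M : Matrix (Fin n) (Fin n) R) (_ : ∀ i, f i = ∑ j, M i j * h j)
    (_ : IsWeaklyRegular R (List.ofFn f)) (_ : IsWeaklyRegular R (List.ofFn h))
    (_ : ∀ i, h i ∈ maximalIdeal R)
    {x : R} (_ : ∀ i, x * h i ∈ Ideal.span (Set.range f)),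
    x ∈ Ideal.span (Set.range f) ⊔ Ideal.span {M.det} := by
  induction n with
  | zero =>
    intro R _ _ _ f h M _ _ _ _ x _
    rw [Matrix.det_fin_zero, Ideal.span_singleton_one, sup_top_eq]
    trivial
  | succ n ih =>
    intro R _ _ _ f h M hM hf hh hm x hx
    -- the ideal generated by the first `n` functions
    set I : Ideal R := Ideal.span (Set.range fun i : Fin n => f i.castSucc) with hI
    have hfI : ∀ i : Fin n, f i.castSucc ∈ I := fun i => Ideal.subset_span ⟨i, rfl⟩
    obtain ⟨hf', hflast⟩ := (wr_ofFn_succ_iff f).mp hf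
    have hfm : ∀ i, f i ∈ maximalIdeal R := fun i => by
      rw [hM i]; exact Ideal.sum_mem _ fun j _ => Ideal.mul_mem_left _ _ (hm j)
    -- Step 1: choose `g = h 0 + b`
    have hIm : I ≤ maximalIdeal R := by
      rw [hI, Ideal.span_le]; rintro _ ⟨i, rfl⟩; exact hfm _
    have hfin : (associatedPrimes R (R ⧸ I)).Finite := associatedPrimes.finite R (R ⧸ I)
    have hzd : ∀ r : R, (∀ P ∈ associatedPrimes R (R ⧸ I), r ∉ P) → ∀ x, r * x ∈ I → x ∈ I := by
      intro r hr x hx
      by_contra hxI
      have h0 : Ideal.Quotient.mk I x ≠ 0 := fun h0 => hxI (Ideal.Quotient.eq_zero_iff_mem.mp h0)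
      have hmem : r ∈ ⋃ p ∈ associatedPrimes R (R ⧸ I), (p : Set R) := by
        rw [biUnion_associatedPrimes_eq_zero_divisors]
        refine ⟨Ideal.Quotient.mk I x, h0, ?_⟩
        have : r • (Ideal.Quotient.mk I x) = Ideal.Quotient.mk I (r * x) := by
          rw [Algebra.smul_def, map_mul]; rfl
        rw [this]; exact Ideal.Quotient.eq_zero_iff_mem.mpr hx
      simp only [Set.mem_iUnion] at hmem
      obtain ⟨P, hP, hrP⟩ := hmem
      exact hr P hP hrP
    have hnotle : ∀ P ∈ hfin.toFinset, ¬ (h 0 ∈ P ∧ Ideal.span (Set.range fun j : Fin n => h j.succ) ≤ P) := by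
      rintro P hP ⟨h0, h1⟩
      rw [Set.Finite.mem_toFinset] at hP
      have hflP : f (Fin.last n) ∈ P := by
        rw [hM, Fin.sum_univ_succ]
        refine P.add_mem (P.mul_mem_left _ h0) (Ideal.sum_mem _ fun j _ => P.mul_mem_left _ ?_)
        exact h1 (Ideal.subset_span ⟨j, rfl⟩)
      have : f (Fin.last n) ∈ ⋃ p ∈ associatedPrimes R (R ⧸ I), (p : Set R) := by
        simp only [Set.mem_iUnion]; exact ⟨P, hP, hflP⟩
      rw [biUnion_associatedPrimes_eq_zero_divisors] at this
      obtain ⟨y, hy0, hy⟩ := this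
      obtain ⟨y, rfl⟩ := Ideal.Quotient.mk_surjective y
      have h2 : f (Fin.last n) • (Ideal.Quotient.mk I y) = Ideal.Quotient.mk I (f (Fin.last n) * y) := by
        rw [Algebra.smul_def, map_mul]; rfl
      rw [h2] at hy
      exact hy0 (Ideal.Quotient.eq_zero_iff_mem.mpr (hflast y (Ideal.Quotient.eq_zero_iff_mem.mp hy)))
    obtain ⟨b, hb, hbP⟩ := exists_add_notMem hfin.toFinset
      (fun P hP => ((hfin.mem_toFinset).mp hP).isPrime) (h 0) _ hnotle
    have hbP' : ∀ P ∈ associatedPrimes R (R ⧸ I), h 0 + b ∉ P := fun P hP =>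
      hbP P (hfin.mem_toFinset.mpr hP)
    obtain ⟨c, hc⟩ : ∃ c : Fin n → R, ∑ j, c j * h j.succ = b := by
      obtain ⟨c, hc⟩ := (Ideal.mem_span_range_iff_exists_fun).mp hb
      exact ⟨c, hc⟩
    set g : R := h 0 + b with hg
    have hgI : ∀ x, g * x ∈ I → x ∈ I := hzd g hbP'
    have hbm : b ∈ maximalIdeal R := by
      rw [← hc]; exact Ideal.sum_mem _ fun j _ => Ideal.mul_mem_left _ _ (hm _)
    have hgm : g ∈ maximalIdeal R := Ideal.add_mem _ (hm 0) hbm
    -- Step 2: regularity modulo `g`
    let q := Ideal.Quotient.mk (Ideal.span {g})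
    have hreg1 : IsWeaklyRegular (R ⧸ Ideal.span {g}) (List.ofFn fun i : Fin n => q (f i.castSucc)) := by
      have h1 : IsWeaklyRegular R ((List.ofFn fun i : Fin n => f i.castSucc) ++ [g]) := by
        rw [wr_snoc_iff, ofList_ofFn]; exact ⟨hf', hgI⟩
      have h2 : IsWeaklyRegular R (g :: (List.ofFn fun i : Fin n => f i.castSucc)) := by
        refine isWeaklyRegular_of_perm_of_subset_maximalIdeal h1 ?_ ?_
        · exact List.perm_append_singleton g _
        · intro r hr
          rcases List.mem_append.mp hr with hr | hr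
          · obtain ⟨i, rfl⟩ := List.mem_ofFn.mp hr
            exact hfm _
          · rw [List.mem_singleton.mp hr]; exact hgm
      have h3 := ((wr_cons_iff g _).mp h2).2
      rwa [List.map_ofFn] at h3
    have hreg2 : IsWeaklyRegular (R ⧸ Ideal.span {g}) (List.ofFn fun i : Fin n => q (h i.succ)) := by
      have h1 : IsWeaklyRegular R ((List.ofFn fun i : Fin n => h i.succ) ++ [h 0]) := by
        refine isWeaklyRegular_of_perm_of_subset_maximalIdeal hh ?_ ?_
        · rw [List.ofFn_succ]
          exact (List.perm_append_singleton _ _).symm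
        · intro r hr
          obtain ⟨i, rfl⟩ := List.mem_ofFn.mp hr
          exact hm _
      have h1' : IsWeaklyRegular R ((List.ofFn fun i : Fin n => h i.succ) ++ [g]) := by
        rw [wr_snoc_iff, ofList_ofFn] at h1 ⊢
        refine ⟨h1.1, fun x hx => h1.2 x ?_⟩
        rw [hg, add_mul] at hx
        exact (Ideal.add_mem_iff_left _ (Ideal.mul_mem_right _ _ hb)).mp hx
      have h2 : IsWeaklyRegular R (g :: (List.ofFn fun i : Fin n => h i.succ)) := by
        refine isWeaklyRegular_of_perm_of_subset_maximalIdeal h1' ?_ ?_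
        · exact List.perm_append_singleton g _
        · intro r hr
          rcases List.mem_append.mp hr with hr | hr
          · obtain ⟨i, rfl⟩ := List.mem_ofFn.mp hr
            exact hm _
          · rw [List.mem_singleton.mp hr]; exact hgm
      have h3 := ((wr_cons_iff g _).mp h2).2
      rwa [List.map_ofFn] at h3
    -- Step 3: change of coordinates
    let N : Matrix (Fin (n + 1)) (Fin (n + 1)) R :=
      fun i => Fin.cons (M i 0) fun j => M i j.succ - c j * M i 0
    let h' : Fin (n + 1) → R := Fin.cons g fun j => h j.succ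
    have hN : ∀ i, f i = ∑ j, N i j * h' j := by
      intro i
      rw [hM i, Fin.sum_univ_succ, Fin.sum_univ_succ]
      have h1 : ∀ j : Fin n, N i j.succ * h' j.succ = M i j.succ * h j.succ - M i 0 * (c j * h j.succ) := by
        intro j
        change (M i j.succ - c j * M i 0) * h j.succ = _
        ring
      rw [Finset.sum_congr rfl fun j _ => h1 j, Finset.sum_sub_distrib, ← Finset.mul_sum, hc]
      change _ = M i 0 * (h 0 + b) + _
      ring
    have hdet : N.det = M.det := by
      rw [← Matrix.det_transpose N, ← Matrix.det_transpose M]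
      refine Matrix.det_eq_of_forall_row_eq_smul_add_const (fun j => Fin.cases 0 (fun j => - c j) j) 0 rfl ?_
      intro j i
      refine Fin.cases ?_ (fun j => ?_) j
      · change M i 0 = M i 0 + 0 * M i 0
        ring
      · change M i j.succ - c j * M i 0 = M i j.succ + (- c j) * M i 0
        ring
    rw [← hdet]
    have hcr := det_mul_zero f h' N hN
    set d : R := (N.submatrix Fin.castSucc Fin.succ).det with hd
    change N.det * g - (-1) ^ n * d * f (Fin.last n) ∈ I at hcr
    -- span of all f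
    have hspan : ∀ y ∈ Ideal.span (Set.range f), ∃ φ ∈ I, ∃ w, y = φ + f (Fin.last n) * w := by
      intro y hy
      obtain ⟨a, rfl⟩ := (Ideal.mem_span_range_iff_exists_fun).mp hy
      refine ⟨∑ i : Fin n, a i.castSucc * f i.castSucc, Ideal.sum_mem _ fun i _ => Ideal.mul_mem_left _ _ (hfI i),
        a (Fin.last n), ?_⟩
      rw [Fin.sum_univ_castSucc, mul_comm (f (Fin.last n))]
    have hIle : I ≤ Ideal.span (Set.range f) := by
      rw [hI, Ideal.span_le]; rintro _ ⟨i, rfl⟩; exact Ideal.subset_span ⟨_, rfl⟩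
    -- x * g ∈ (f)
    have hxg : x * g ∈ Ideal.span (Set.range f) := by
      rw [hg, ← hc, mul_add, Finset.mul_sum]
      refine Ideal.add_mem _ (hx 0) (Ideal.sum_mem _ fun j _ => ?_)
      have : x * (c j * h j.succ) = c j * (x * h j.succ) := by ring
      rw [this]; exact Ideal.mul_mem_left _ _ (hx _)
    obtain ⟨φ, hφ, z, hz⟩ := hspan _ hxg
    have hzj : ∀ j : Fin n, ∃ w, z * h j.succ - g * w ∈ I := by
      intro j
      obtain ⟨ψ, hψ, w, hw⟩ := hspan _ (hx j.succ)
      refine ⟨w, hflast _ ?_⟩
      have : f (Fin.last n) * (z * h j.succ - g * w) = g * ψ - φ * h j.succ := by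
        have e1 : f (Fin.last n) * z = x * g - φ := by rw [hz]; ring
        have e2 : f (Fin.last n) * w = x * h j.succ - ψ := by rw [hw]; ring
        calc f (Fin.last n) * (z * h j.succ - g * w)
            = (f (Fin.last n) * z) * h j.succ - g * (f (Fin.last n) * w) := by ring
          _ = _ := by rw [e1, e2]; ring
      rw [this]
      exact I.sub_mem (I.mul_mem_left _ hψ) (I.mul_mem_right _ hφ)
    -- induction
    have : Nontrivial (R ⧸ Ideal.span {g}) :=
      Ideal.Quotient.nontrivial_iff.mpr fun h1 => by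
        have : (1 : R) ∈ Ideal.span {g} := h1 ▸ Submodule.mem_top
        exact (Ideal.ne_top_iff_one _).mp (maximalIdeal.isMaximal R).ne_top
          (((Ideal.span_singleton_le_iff_mem _).mpr hgm) this)
    have : IsLocalRing (R ⧸ Ideal.span {g}) :=
      IsLocalRing.of_surjective' q Ideal.Quotient.mk_surjective
    have hmapI : Ideal.span (Set.range fun i : Fin n => q (f i.castSucc)) = I.map q := by
      rw [hI, Ideal.map_span]; congr 1
      ext y; simp [Set.mem_range]
    have key := ih (R := R ⧸ Ideal.span {g}) (fun i : Fin n => q (f i.castSucc)) (fun i : Fin n => q (h i.succ))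
      ((N.submatrix Fin.castSucc Fin.succ).map q) (by
        intro i
        have h1 := congrArg q (hN i.castSucc)
        rw [map_sum, Fin.sum_univ_succ] at h1
        change q (f i.castSucc) = _
        rw [h1]
        have h2 : q (N i.castSucc 0 * h' 0) = 0 := by
          rw [map_mul]
          have : q (h' 0) = 0 := Ideal.Quotient.eq_zero_iff_mem.mpr (Ideal.mem_span_singleton_self g)
          rw [this, mul_zero]
        rw [h2, zero_add]
        exact Finset.sum_congr rfl fun j _ => map_mul q _ _)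
      hreg1 hreg2 (fun i => by
        have : Ideal.map q (maximalIdeal R) ≤ maximalIdeal (R ⧸ Ideal.span {g}) := by
          have : IsLocalHom q := IsLocalHom.of_surjective q Ideal.Quotient.mk_surjective
          exact ((IsLocalRing.local_hom_TFAE q).out 0 2).mp this
        exact this (Ideal.mem_map_of_mem q (hm _)))
      (x := q z) (fun j => by
        obtain ⟨w, hw⟩ := hzj j
        rw [hmapI, ← map_mul]
        have h1 := Ideal.mem_map_of_mem q hw
        rw [map_sub, map_mul q g w] at h1
        have : q g = 0 := Ideal.Quotient.eq_zero_iff_mem.mpr (Ideal.mem_span_singleton_self g)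
        rwa [this, zero_mul, sub_zero] at h1)
    rw [hmapI, ← RingHom.mapMatrix_apply, ← RingHom.map_det] at key
    obtain ⟨y1, hy1, y2, hy2, hy⟩ := Submodule.mem_sup.mp key
    obtain ⟨y1, hy1I, rfl⟩ := (Ideal.mem_map_iff_of_surjective q Ideal.Quotient.mk_surjective).mp hy1
    obtain ⟨e, rfl⟩ := (Ideal.mem_span_singleton').mp hy2
    obtain ⟨e, rfl⟩ := Ideal.Quotient.mk_surjective e
    rw [← hd] at hy
    have hzz : z - (y1 + e * d) ∈ Ideal.span {g} := by
      apply Ideal.Quotient.eq_zero_iff_mem.mp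
      change q _ = 0
      rw [map_sub, map_add, map_mul, sub_eq_zero]
      exact hy.symm
    obtain ⟨v, hv⟩ := (Ideal.mem_span_singleton').mp hzz
    have hz' : z = y1 + e * d + v * g := by rw [hv]; ring
    -- conclusion
    have hsign : ((-1 : R) ^ n) * ((-1) ^ n) = 1 := by
      rw [← mul_pow]; simp
    have hfinal : g * (x - (-1) ^ n * e * N.det - f (Fin.last n) * v) ∈ I := by
      have h1 : g * (x - (-1) ^ n * e * N.det - f (Fin.last n) * v) =
          φ + f (Fin.last n) * y1 - (-1) ^ n * e * (N.det * g - (-1) ^ n * d * f (Fin.last n)) +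
            (1 - ((-1) ^ n) * ((-1) ^ n)) * (e * d * f (Fin.last n)) := by
        have h2 : x * g = φ + f (Fin.last n) * (y1 + e * d + v * g) := by rw [← hz', hz]
        linear_combination h2
      rw [h1, hsign, sub_self, zero_mul, add_zero]
      exact I.sub_mem (I.add_mem hφ (I.mul_mem_left _ hy1I)) (I.mul_mem_left _ hcr)
    have hfin' := hgI _ hfinal
    have hxe : x = (x - (-1) ^ n * e * N.det - f (Fin.last n) * v) + f (Fin.last n) * v +
        (-1) ^ n * e * N.det := by ring
    rw [hxe]
    refine Ideal.add_mem _ (Ideal.add_mem _ (Ideal.mem_sup_left (hIle hfin')) (Ideal.mem_sup_left ?_))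
      (Ideal.mem_sup_right (Ideal.mul_mem_left _ _ (Ideal.mem_span_singleton_self _)))
    exact Ideal.mul_mem_right _ _ (Ideal.subset_span ⟨_, rfl⟩)

/-- Linkage, regular sequence form, as an equality of ideals. -/
theorem colon_eq {R : Type u} [CommRing R] [IsLocalRing R] [IsNoetherianRing R] {n : ℕ}
    (f h : Fin n → R) (M : Matrix (Fin n) (Fin n) R) (hM : ∀ i, f i = ∑ j, M i j * h j)
    (hf : IsWeaklyRegular R (List.ofFn f)) (hh : IsWeaklyRegular R (List.ofFn h))
    (hm : ∀ i, h i ∈ maximalIdeal R) (x : R) :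
    (∀ y ∈ Ideal.span (Set.range h), x * y ∈ Ideal.span (Set.range f)) ↔
      x ∈ Ideal.span (Set.range f) ⊔ Ideal.span {M.det} := by
  constructor
  · intro hx
    exact linkage n f h M hM hf hh hm fun i => hx _ (Ideal.subset_span ⟨i, rfl⟩)
  · intro hx y hy
    obtain ⟨a, ha, b, hb, rfl⟩ := Submodule.mem_sup.mp hx
    obtain ⟨c, rfl⟩ := (Ideal.mem_span_singleton').mp hb
    rw [add_mul]
    refine Ideal.add_mem _ (Ideal.mul_mem_right _ _ ha) ?_
    obtain ⟨e, rfl⟩ := (Ideal.mem_span_range_iff_exists_fun).mp hy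
    rw [Finset.mul_sum]
    refine Ideal.sum_mem _ fun i _ => ?_
    have : c * M.det * (e i * h i) = (c * e i) * (M.det * h i) := by ring
    rw [this]
    exact Ideal.mul_mem_left _ _ (det_mul_mem f h M hM i)

end Main

end Groth.Agent.Ega4C.Linkage
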